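import Cfsg.Agent.H958.Swap.Base
import Cfsg.Agent.H2.GTwoThree
import Cfsg.Agent.S1034

/-!
# Involutory automorphisms of `G₂(3^a)` fixing a Borel subgroup and exchanging the parabolics (helper958)

`swap_g2` : no such automorphism satisfies `TT` (task 1537 of helper483, S3832, S4336).
-/

set_option autoImplicit false
set_option linter.unusedSectionVars false
set_option maxRecDepth 100000

namespace Cfsg.Agent.H958.Swap

open scoped Pointwise
open Subgroup Cfsg Cfsg.Lie Cfsg.Agent.ChevalleyStructure Cfsg.Agent.ChevalleyStructure.Elts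
  Cfsg.Agent.H70.ChevFix Cfsg.Agent.H70.ChevField Cfsg.Agent.H70.OutCount Cfsg.Agent.Schreier.ChevLocal
  Cfsg.Agent.H70.PermFix Cfsg.Agent.Schreier.ChevSch Cfsg.Agent.H70.AutFix Cfsg.Agent.ChevalleyStructure.BNChev
  Cfsg.Agent.S1042 Cfsg.Agent.ChevalleyStructure.NConj Cfsg.Agent.H70.ChevTab
open Cfsg.Agent.H331.BF.Chev Cfsg.Agent.H483.Rad23 Cfsg.Agent.H459.Rad Cfsg.Agent.H459.Iface Cfsg.Agent.H459.Gallery

universe u

theorem perm_two : ∀ π : Equiv.Perm (Fin 2), π ≠ 1 → π 0 = 1 ∧ π 1 = 0 := by decide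

theorem inList_g2 : InList chevG2 := by simp [InList]

/-- the two nodes -/
def i0 : Fin chevG2.rank := ⟨0, by decide⟩
def i1 : Fin chevG2.rank := ⟨1, by decide⟩

theorem perm_g2 (π : Equiv.Perm (Fin chevG2.rank)) (h : π ≠ 1) : π i0 = i1 ∧ π i1 = i0 :=
  perm_two π h

theorem fin_g2 (i : Fin chevG2.rank) : i = i0 ∨ i = i1 := by
  have h : ∀ i : Fin 2, i = 0 ∨ i = 1 := by decide
  exact h i

theorem simple_i0 : chevG2.simple (i0 : Fin chevG2.rank) = 7 := by decide +kernel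
theorem simple_i1 : chevG2.simple (i1 : Fin chevG2.rank) = 6 := by decide +kernel
theorem neg_i0 : chevG2.neg (chevG2.simple (i0 : Fin chevG2.rank)) = 4 := by decide +kernel
theorem neg_i1 : chevG2.neg (chevG2.simple (i1 : Fin chevG2.rank)) = 5 := by decide +kernel

theorem cartan_g2 : chevG2.cartan (i0 : Fin chevG2.rank) 9 = 1 ∧ chevG2.cartan (i1 : Fin chevG2.rank) 9 = 0 ∧
    9 < chevG2.nroots ∧ chevG2.cartan (i0 : Fin chevG2.rank) (chevG2.simple (i1 : Fin chevG2.rank)) = -3 ∧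
    chevG2.cartan (i1 : Fin chevG2.rank) (chevG2.simple (i0 : Fin chevG2.rank)) = -1 := by decide +kernel

/-! ### `q > 3` -/

/-- `3^a - 1` has a prime divisor `≥ 5`, or `8 ∣ 3^a - 1`, or `a = 1` -/
theorem arith {a : ℕ} (ha : 1 ≤ a) : (∃ l : ℕ, l.Prime ∧ 5 ≤ l ∧ l ∣ 3 ^ a - 1) ∨ 8 ∣ 3 ^ a - 1 ∨ a = 1 := by
  by_cases h : ∃ l : ℕ, l.Prime ∧ 5 ≤ l ∧ l ∣ 3 ^ a - 1
  · exact Or.inl h
  · right
    push Not at h
    have h1 : 3 ≤ 3 ^ a := by
      calc 3 = 3 ^ 1 := by norm_num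
        _ ≤ 3 ^ a := Nat.pow_le_pow_right (by norm_num) ha
    have h3 : ¬ 3 ∣ 3 ^ a - 1 := by
      intro h3
      have h4 : 3 ∣ 3 ^ a := dvd_pow_self 3 (by omega)
      omega
    have h5 : ∀ l : ℕ, l.Prime → l ∣ 3 ^ a - 1 → l = 2 := by
      intro l hl hd
      by_contra h2
      have h6 : l ≠ 3 := fun e => h3 (e ▸ hd)
      have h7 : l < 5 := by
        by_contra h8
        exact h l hl (by omega) hd
      have h8 := hl.two_le
      interval_cases l
      · exact h2 rfl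
      · exact h6 rfl
      · exact absurd hl (by norm_num)
    obtain ⟨k, hk⟩ := Nat.eq_prime_pow_of_unique_prime_dvd (n := 3 ^ a - 1) (by omega) (fun {d} hd hd' => h5 d hd hd')
      |> fun h => (⟨_, h⟩ : ∃ k, 3 ^ a - 1 = 2 ^ k)
    rcases Nat.lt_or_ge k 3 with hk3 | hk3
    · right
      by_contra ha1
      have ha2 : 2 ≤ a := by omega
      have h9 : 9 ≤ 3 ^ a := by
        calc 9 = 3 ^ 2 := by norm_num
          _ ≤ 3 ^ a := Nat.pow_le_pow_right (by norm_num) ha2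
      have : 2 ^ k ≤ 2 ^ 2 := Nat.pow_le_pow_right (by norm_num) (by omega)
      omega
    · left
      rw [hk]
      exact pow_dvd_pow 2 hk3

variable {F : Type u} [Field F] [Fintype F]

/-- the case `q > 3` -/
theorem std_of_lt [CharP F 3] (hF : 3 < Fintype.card F) : StdRow chevG2 F := by
  classical
  have hD := inList_g2
  intro x hx2 hR hP hT hxB M hM ⟨m, hm, hxm⟩
  obtain ⟨b, hb, π, c, σ, hV, hU, hrel⟩ := exists_val hD hxB
  have hπ : π ≠ 1 := by
    rintro rfl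
    exact hxm (mem_of_perm_one hD hb hV hxB hM hm)
  obtain ⟨hπ0, hπ1⟩ := perm_g2 π hπ
  obtain ⟨c1, c2, c3, c4, c5⟩ := cartan_g2
  obtain ⟨n, -, hn⟩ := FiniteField.card F 3
  have hcardU : Nat.card Fˣ = Fintype.card F - 1 := by
    rw [Nat.card_eq_fintype_card, Fintype.card_units]
  rcases arith (a := n) n.2 with ⟨l, hl, h5, hd⟩ | hd | h1
  · have : Fact l.Prime := ⟨hl⟩
    rw [← hn, ← hcardU] at hd
    obtain ⟨u, hu⟩ := exists_prime_orderOf_dvd_card' l hd
    have hut : (u : F) ^ l = 1 := by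
      rw [← Units.val_pow_eq_pow_val, ← hu, pow_orderOf_eq_one, Units.val_one]
    have h := he_eq_of_tt hD hT hb hV hxB hl h5 i0 hut
    rw [hπ0] at h
    have hne : σ i0 (u : F) ≠ 0 := by
      rw [Ne, EmbeddingLike.map_eq_zero_iff]
      exact u.ne_zero
    have h6 := zpow_eq_of_he hD hne u.ne_zero h c3
    rw [c1, c2, zpow_zero, zpow_one] at h6
    have h7 : u = 1 := Units.ext h6.symm
    rw [h7, orderOf_one] at hu
    omega
  · rw [← hn, ← hcardU] at hd
    obtain ⟨g, hg⟩ := IsCyclic.exists_ofOrder_eq_natCard (α := Fˣ)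
    obtain ⟨d, hd⟩ := hd
    have hd0 : d ≠ 0 := by
      rintro rfl
      have : 0 < Nat.card Fˣ := Nat.card_pos
      omega
    have ho : orderOf (g ^ d) = 8 := by
      rw [orderOf_pow, hg, hd, Nat.gcd_mul_left_left]
      exact Nat.mul_div_cancel _ (Nat.pos_of_ne_zero hd0)
    set u : Fˣ := g ^ d with hu
    -- `σ₁` on `u`
    set v : Fˣ := Units.map (σ i1 : F →* F) u with hv
    have hv8 : v ^ 8 = 1 := by
      rw [hv, ← map_pow, ← ho, pow_orderOf_eq_one, map_one]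
    have hmem : v ∈ zpowers u := by
      have h1 : (rootsOfUnity 8 F) = zpowers u := by
        symm
        apply Subgroup.eq_of_le_of_card_ge
        · rw [zpowers_le]
          show u ^ 8 = 1
          rw [← ho, pow_orderOf_eq_one]
        · rw [Nat.card_zpowers, ho]
          exact card_rootsOfUnity F 8
      rw [← h1]
      exact hv8
    obtain ⟨j, hj⟩ := (mem_zpowers_iff).1 hmem
    have hov : orderOf v = 8 := by
      rw [hv, orderOf_injective _ (Units.map_injective (σ i1).injective), ho]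
    have hodd : Odd j := by
      by_contra he
      rw [Int.not_odd_iff_even] at he
      obtain ⟨k, hk⟩ := he
      have h1 : v ^ 4 = 1 := by
        rw [← hj, hk, ← zpow_natCast, ← zpow_mul]
        have : (k + k) * ((4 : ℕ) : ℤ) = 8 * k := by push_cast; ring
        rw [this, zpow_mul]
        have : u ^ (8 : ℤ) = 1 := by
          have := pow_orderOf_eq_one u
          rw [ho] at this
          exact_mod_cast this
        rw [this, one_zpow]
      have := orderOf_dvd_of_pow_eq_one h1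
      rw [hov] at this
      norm_num at this
    have hvv : Units.map (σ i1 : F →* F) v = u := by
      rw [← hj, map_zpow, ← hv, ← hj, ← zpow_mul]
      obtain ⟨k, hk⟩ := hodd
      have h2 : ∃ e : ℤ, j * j = 8 * e + 1 := by
        have h3 : 2 ∣ k * (k + 1) := (Int.even_mul_succ_self k).two_dvd
        obtain ⟨e, he⟩ := h3
        refine ⟨e, ?_⟩
        rw [hk]
        nlinarith
      obtain ⟨e, he⟩ := h2
      rw [he, zpow_add, zpow_mul, zpow_one]
      have : u ^ (8 : ℤ) = 1 := by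
        have := pow_orderOf_eq_one u
        rw [ho] at this
        exact_mod_cast this
      rw [this, one_zpow, one_mul]
    have hσσ : σ i1 (σ i1 (u : F)) = u := by
      have := congrArg Units.val hvv
      exact this
    -- the relation
    have h01 : σ i0 (u : F) = (σ i1 (u : F)) ^ 3 := by
      have h1 := hrel i1 i0 (u : F) u.ne_zero
      rw [hπ0, hπ1, c4, c5] at h1
      rw [map_zpow₀, zpow_neg, zpow_neg, inv_inj, zpow_one] at h1
      exact_mod_cast h1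
    have hxx : x * x = 1 := by
      rw [← pow_two, ← hx2, pow_orderOf_eq_one]
    have h := he_eq_of_sq hD hxx hb hV hxB hU i0 u.ne_zero
    rw [hπ0, hπ1] at h
    have hne : σ i1 (σ i0 (u : F)) ≠ 0 := by
      rw [Ne, EmbeddingLike.map_eq_zero_iff, EmbeddingLike.map_eq_zero_iff]
      exact u.ne_zero
    have h6 := zpow_eq_of_he hD hne u.ne_zero h c3
    rw [c1, zpow_one, zpow_one, h01, map_pow, hσσ] at h6
    have h7 : u ^ 2 = 1 := by
      have h8 : u ^ 3 = u := Units.ext (by rw [Units.val_pow_eq_pow_val]; exact h6)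
      have h9 : u ^ 2 * u = 1 * u := by rw [← pow_succ, h8, one_mul]
      exact mul_right_cancel h9
    have := orderOf_dvd_of_pow_eq_one h7
    rw [ho] at this
    norm_num at this
  · rw [hn, h1] at hF
    norm_num at hF

/-! ### `q = 3` -/

section Three

open Cfsg.Agent.GTwoThree.Model

abbrev G3 : Type := ↥(chevG2.group (ZMod 3))

theorem xe_eq_y (r : Fin 12) (t : Fin 3) : xe inList_g2 r.val ((t.val : ℕ) : ZMod 3) = ev y (wx r.val t.val) := by
  apply Subtype.ext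
  rw [ev_y]
  apply Units.ext
  rw [θ_x]
  show chevG2.x (ZMod 3) r.val _ = _
  rw [x_of_lt r.2]
  rfl

/-- the words as elements of `G₂(3)` -/
def EE (w : List ℕ) : G3 := Cfsg.Agent.H2.GTwoThree.M.E w

theorem EE_app (u v : List ℕ) : EE (u ++ v) = EE u * EE v := Cfsg.Agent.H2.GTwoThree.M.app u v

theorem EE_nil : EE [] = 1 := Cfsg.Agent.H2.GTwoThree.M.nil

theorem xe7 : xe inList_g2 7 (1 : ZMod 3) = EE [14] := xe_eq_y 7 1
theorem xe6 : xe inList_g2 6 (1 : ZMod 3) = EE [12] := xe_eq_y 6 1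
theorem xe4 : xe inList_g2 4 (1 : ZMod 3) = EE [8] := xe_eq_y 4 1
theorem xe5 : xe inList_g2 5 (1 : ZMod 3) = EE [10] := xe_eq_y 5 1

/-- the element `γ(a) a⁻¹`, `a = x_a(1) x_{-b}(1)` -/
def ww : List ℕ := [12, 8, 11, 15]

theorem inv_EE : (EE [14] * EE [10])⁻¹ = EE [11, 15] := by
  apply inv_eq_of_mul_eq_one_right
  rw [← EE_app, ← EE_app, ← EE_nil]
  exact Cfsg.Agent.H2.GTwoThree.M.eq_of _ _ (by decide +kernel)

theorem ww_eq : xe inList_g2 6 (1 : ZMod 3) * xe inList_g2 4 1 *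
    (xe inList_g2 7 (1 : ZMod 3) * xe inList_g2 5 1)⁻¹ = EE ww := by
  rw [xe7, xe6, xe4, xe5, inv_EE, ← EE_app, ← EE_app]
  rfl

theorem order_ww : orderOf (EE ww) = 7 := by
  have : Fact (Nat.Prime 7) := ⟨by norm_num⟩
  refine orderOf_eq_prime ?_ ?_
  · have h7 : (EE ww) ^ 7 = EE (ww ++ (ww ++ (ww ++ (ww ++ (ww ++ (ww ++ ww)))))) := by
      rw [EE_app, EE_app, EE_app, EE_app, EE_app, EE_app]
      simp only [pow_succ, pow_zero, one_mul, mul_assoc]
    rw [h7, ← EE_nil]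
    exact Cfsg.Agent.H2.GTwoThree.M.eq_of _ _ (by decide +kernel)
  · rw [← EE_nil]
    exact Cfsg.Agent.H2.GTwoThree.M.ne_of _ _ (by decide +kernel)

/-- the values of the standard graph automorphism -/
theorem false_of_std {γ : MulAut G3} (hT : TT γ)
    (h7 : γ (xe inList_g2 7 1) = xe inList_g2 6 1) (h5 : γ (xe inList_g2 5 1) = xe inList_g2 4 1) : False := by
  have hfin : Finite G3 := finite_group chevG2 (ZMod 3)
  refine hT.not_dvd (center_eq_bot inList_g2) (l := 7) (by norm_num) (by norm_num)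
    (xe inList_g2 7 (1 : ZMod 3) * xe inList_g2 5 1) ?_
  rw [map_mul, h7, h5, ww_eq, order_ww]

theorem sigma_three (σ : ZMod 3 ≃+* ZMod 3) (t : ZMod 3) : σ t = t := by
  have h : (σ : ZMod 3 →+* ZMod 3) = RingHom.id _ := Subsingleton.elim _ _
  exact DFunLike.congr_fun h t

theorem cartan_vals : (chevG2.cartan (i0 : Fin chevG2.rank) 7 = 2 ∧ chevG2.cartan (i1 : Fin chevG2.rank) 7 = -1) ∧
    (chevG2.cartan (i0 : Fin chevG2.rank) 6 = -3 ∧ chevG2.cartan (i1 : Fin chevG2.rank) 6 = 2) ∧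
    (chevG2.cartan (i0 : Fin chevG2.rank) 4 = -2 ∧ chevG2.cartan (i1 : Fin chevG2.rank) 4 = 1) ∧
    (chevG2.cartan (i0 : Fin chevG2.rank) 5 = 3 ∧ chevG2.cartan (i1 : Fin chevG2.rank) 5 = -2) ∧
    7 < chevG2.nroots ∧ 6 < chevG2.nroots ∧ 4 < chevG2.nroots ∧ 5 < chevG2.nroots := by decide +kernel

/-- conjugation by `h_a(α) h_b(β)` -/
theorem conj_he2 {α β : ZMod 3} (hα : α ≠ 0) (hβ : β ≠ 0) {s : ℕ} (hs : s < chevG2.nroots) (t : ZMod 3) :
    (he inList_g2 (chevG2.simple (i0 : Fin chevG2.rank)) α * he inList_g2 (chevG2.simple (i1 : Fin chevG2.rank)) β) *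
      xe inList_g2 s t *
      (he inList_g2 (chevG2.simple (i0 : Fin chevG2.rank)) α *
        he inList_g2 (chevG2.simple (i1 : Fin chevG2.rank)) β)⁻¹ =
      xe inList_g2 s (α ^ chevG2.cartan (i0 : Fin chevG2.rank) s *
        (β ^ chevG2.cartan (i1 : Fin chevG2.rank) s * t)) := by
  have e : ∀ a b c : G3, (a * b) * c * (a * b)⁻¹ = a * (b * c * b⁻¹) * a⁻¹ := fun a b c => by group
  rw [e, he_conj inList_g2 i1.2 hs hβ, he_conj inList_g2 i0.2 hs hα]

theorem std_three : StdRow chevG2 (ZMod 3) := by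
  have hD := inList_g2
  have hfin : Finite G3 := finite_group chevG2 (ZMod 3)
  intro x hx2 hR hP hT hxB M hM ⟨m, hm, hxm⟩
  obtain ⟨b, hb, π, c, σ, hV, hU, hrel⟩ := exists_val hD hxB
  have hπ : π ≠ 1 := by
    rintro rfl
    exact hxm (mem_of_perm_one hD hb hV hxB hM hm)
  obtain ⟨hπ0, hπ1⟩ := perm_g2 π hπ
  obtain ⟨⟨v70, v71⟩, ⟨v60, v61⟩, ⟨v40, v41⟩, ⟨v50, v51⟩, l7, l6, l4, l5⟩ := cartan_vals
  have dec1 : ∀ a b t : ZMod 3, a ≠ 0 → b ≠ 0 → a ^ (-3 : ℤ) * (b ^ (2 : ℤ) * (a * t)) = t := by decide +kernel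
  have dec2 : ∀ a b t : ZMod 3, a ≠ 0 → b ≠ 0 → a ^ (2 : ℤ) * (b ^ (-1 : ℤ) * (b * t)) = t := by decide +kernel
  have dec3 : ∀ a b t : ZMod 3, a ≠ 0 → b ≠ 0 → a ^ (3 : ℤ) * (b ^ (-2 : ℤ) * (a⁻¹ * t)) = t := by decide +kernel
  have dec4 : ∀ a b t : ZMod 3, a ≠ 0 → b ≠ 0 → a ^ (-2 : ℤ) * (b ^ (1 : ℤ) * (b⁻¹ * t)) = t := by decide +kernel
  have hc0 := hV.nz i0
  have hc1 := hV.nz i1
  set φ := MulAut.conj b * x with hφ
  set h : G3 := he hD (chevG2.simple (i0 : Fin chevG2.rank)) (c i0) *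
    he hD (chevG2.simple (i1 : Fin chevG2.rank)) (c i1) with hh
  have hH : HH chevG2 (ZMod 3) ≤ BB chevG2 (ZMod 3) := fun _ hg => Subgroup.mem_sup_right hg
  have hhH : h ∈ HH chevG2 (ZMod 3) :=
    mul_mem (he_mem_HH hD (S1042.simple_lt hD i0.2) hc0) (he_mem_HH hD (S1042.simple_lt hD i1.2) hc1)
  set γ : MulAut G3 := MulAut.conj h * φ with hγ
  have g7 : ∀ t : ZMod 3, γ (xe hD 7 t) = xe hD 6 t := by
    intro t
    have h1 := hV.pos i0 t
    rw [hπ0, simple_i0, simple_i1, sigma_three] at h1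
    show h * φ (xe hD 7 t) * h⁻¹ = _
    rw [h1, hh, conj_he2 hc0 hc1 l6, v60, v61, dec1 _ _ _ hc0 hc1]
  have g6 : ∀ t : ZMod 3, γ (xe hD 6 t) = xe hD 7 t := by
    intro t
    have h1 := hV.pos i1 t
    rw [hπ1, simple_i0, simple_i1, sigma_three] at h1
    show h * φ (xe hD 6 t) * h⁻¹ = _
    rw [h1, hh, conj_he2 hc0 hc1 l7, v70, v71, dec2 _ _ _ hc0 hc1]
  have g4 : ∀ t : ZMod 3, γ (xe hD 4 t) = xe hD 5 t := by
    intro t
    have h1 := hV.neg i0 t
    rw [hπ0, neg_i0, neg_i1, sigma_three] at h1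
    show h * φ (xe hD 4 t) * h⁻¹ = _
    rw [h1, hh, conj_he2 hc0 hc1 l5, v50, v51, dec3 _ _ _ hc0 hc1]
  have g5 : ∀ t : ZMod 3, γ (xe hD 5 t) = xe hD 4 t := by
    intro t
    have h1 := hV.neg i1 t
    rw [hπ1, neg_i0, neg_i1, sigma_three] at h1
    show h * φ (xe hD 5 t) * h⁻¹ = _
    rw [h1, hh, conj_he2 hc0 hc1 l4, v40, v41, dec4 _ _ _ hc0 hc1]
  have hVγ : Val hD γ π (fun _ => 1) (fun _ => RingEquiv.refl _) := by
    refine ⟨fun _ => one_ne_zero, ?_, ?_⟩
    · intro i t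
      rcases fin_g2 i with rfl | rfl
      · rw [hπ0, simple_i0, simple_i1, g7, one_mul]; rfl
      · rw [hπ1, simple_i0, simple_i1, g6, one_mul]; rfl
    · intro i t
      rcases fin_g2 i with rfl | rfl
      · rw [hπ0, neg_i0, neg_i1, g4, inv_one, one_mul]; rfl
      · rw [hπ1, neg_i0, neg_i1, g5, inv_one, one_mul]; rfl
  have hγγ : γ * γ = 1 := by
    apply ext_values hD
    · intro i t
      rcases fin_g2 i with rfl | rfl
      · rw [simple_i0, MulAut.mul_apply, g7, g6]; rfl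
      · rw [simple_i1, MulAut.mul_apply, g6, g7]; rfl
    · intro i t
      rcases fin_g2 i with rfl | rfl
      · rw [neg_i0, MulAut.mul_apply, g4, g5]; rfl
      · rw [neg_i1, MulAut.mul_apply, g5, g4]; rfl
  have hγγ' : ∀ y, γ (γ y) = y := fun y => by rw [← MulAut.mul_apply, hγγ]; rfl
  have hγU : ∀ u ∈ UU chevG2 (ZMod 3), γ u ∈ UU chevG2 (ZMod 3) := by
    intro u hu
    have h3 := (apply_mem_smul_iff φ (UU chevG2 (ZMod 3)) u).2 hu
    rw [hU] at h3
    exact conj_mem_UU _ hD (hH hhH) h3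
  obtain ⟨b', hb'⟩ : ∃ b' : G3, b' = (h * b)⁻¹ := ⟨_, rfl⟩
  have hb'B : b' ∈ BB chevG2 (ZMod 3) := by
    rw [hb']
    exact inv_mem (mul_mem (hH hhH) hb)
  have hxγ : x = MulAut.conj b' * γ := by
    rw [hγ, hφ, hb', map_inv, map_mul]
    group
  have hxx : x * x = 1 := by
    rw [← pow_two, ← hx2, pow_orderOf_eq_one]
  have hγinv : γ⁻¹ = γ := inv_eq_of_mul_eq_one_left hγγ
  have hconjγ : ∀ g : G3, γ * MulAut.conj g = MulAut.conj (γ g) * γ := by
    intro g
    ext y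
    simp [MulAut.mul_apply]
  have hcoc : b' * γ b' = 1 := by
    apply conj_injective hD
    rw [map_mul, map_one, ← hxx, hxγ]
    have e : MulAut.conj b' * γ * (MulAut.conj b' * γ) = MulAut.conj b' * (γ * MulAut.conj b') * γ := by group
    rw [e, hconjγ]
    have e2 : MulAut.conj b' * (MulAut.conj (γ b') * γ) * γ = MulAut.conj b' * MulAut.conj (γ b') * (γ * γ) := by group
    rw [e2, hγγ, mul_one]
  -- the torus part
  obtain ⟨u, hu, g, hg, hug⟩ := exists_mul _ hD hb'B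
  obtain ⟨d, hd, hge⟩ := S1034.result chevG2 hD (g : GL chevG2.Idx (ZMod 3)) hg
  have hd0 : d 0 ≠ 0 := hd 0 i0.2
  have hd1 : d 1 ≠ 0 := hd 1 i1.2
  have hge' : g = he hD (chevG2.simple (i0 : Fin chevG2.rank)) (d 0) *
      he hD (chevG2.simple (i1 : Fin chevG2.rank)) (d 1) := by
    apply Subtype.ext
    apply Units.ext
    rw [hge]
    have hr : List.range chevG2.rank = [0, 1] := by decide
    rw [hr, List.flatMap_cons, List.flatMap_cons, List.flatMap_nil, List.append_nil]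
    rw [← coe_wordG hD, wordG_append]
    rfl
  have hγg : γ g ∈ HH chevG2 (ZMod 3) := by
    rw [hge', map_mul]
    have h1 := hVγ.map_he i0 hd0
    have h2 := hVγ.map_he i1 hd1
    rw [hπ0] at h1
    rw [hπ1] at h2
    rw [h1, h2]
    exact mul_mem (he_mem_HH hD (S1042.simple_lt hD i1.2) hd0) (he_mem_HH hD (S1042.simple_lt hD i0.2) hd1)
  have hgg : g * γ g = 1 := by
    apply HH_inf_UU hD (mul_mem hg hγg)
    have e : g * γ g = (g * (γ u)⁻¹ * g⁻¹) * u⁻¹ := by
      have h1 := hcoc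
      rw [hug, map_mul] at h1
      have h2 : γ g = (γ u)⁻¹ * g⁻¹ * u⁻¹ := by
        have h3 : u * g * γ u * γ g = 1 := by rw [← h1]; group
        have h4 := eq_inv_of_mul_eq_one_right h3
        rw [h4]; group
      rw [h2]; group
    rw [e]
    exact mul_mem (conj_mem_UU _ hD (hH hg) (inv_mem (hγU u hu))) (inv_mem hu)
  have hγa0 : γ (he hD (chevG2.simple (i0 : Fin chevG2.rank)) (d 0)) =
      he hD (chevG2.simple (i1 : Fin chevG2.rank)) (d 0) := by
    rw [hVγ.map_he _ hd0, hπ0]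
    rfl
  have hγa1 : γ (he hD (chevG2.simple (i1 : Fin chevG2.rank)) (d 1)) =
      he hD (chevG2.simple (i0 : Fin chevG2.rank)) (d 1) := by
    rw [hVγ.map_he _ hd1, hπ1]
    rfl
  have hd01 : d 0 * d 1 = 1 := by
    obtain ⟨c1, c2, c3, -, -⟩ := cartan_g2
    have h4 : (g * γ g) * xe hD 9 1 * (g * γ g)⁻¹ = xe hD 9 1 := by
      rw [hgg]; group
    rw [hge', map_mul, hγa0, hγa1] at h4
    have e : ∀ a b c d X : G3, (a * b * (c * d)) * X * (a * b * (c * d))⁻¹ =
        a * (b * (c * (d * X * d⁻¹) * c⁻¹) * b⁻¹) * a⁻¹ := fun a b c d X => by group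
    rw [e, he_conj hD i0.2 c3 hd1, he_conj hD i1.2 c3 hd0, he_conj hD i1.2 c3 hd1, he_conj hD i0.2 c3 hd0, c1, c2,
      zpow_one, zpow_one, zpow_zero, zpow_zero, one_mul, one_mul, mul_one] at h4
    exact xe_inj hD c3 h4
  have hdd : d 0 = d 1 ∧ (d 0)⁻¹ = d 0 := by
    have dec : ∀ a b : ZMod 3, a * b = 1 → a = b ∧ a⁻¹ = a := by decide +kernel
    exact dec _ _ hd01
  set k : G3 := he hD (chevG2.simple (i0 : Fin chevG2.rank)) (d 0) with hk
  have hkH : k ∈ HH chevG2 (ZMod 3) := he_mem_HH hD (S1042.simple_lt hD i0.2) hd0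
  have hkk : k * k = 1 := by
    rw [hk, ← he_mul hD _ hd0 hd0]
    have : d 0 * d 0 = 1 := by
      have dec : ∀ a : ZMod 3, a ≠ 0 → a * a = 1 := by decide +kernel
      exact dec _ hd0
    rw [this, he_one]
  have hkg : k * g * (γ k)⁻¹ = 1 := by
    rw [mul_inv_eq_one, hγa0, hge', ← mul_assoc, hkk, one_mul, hdd.1]
  set u' : G3 := k * u * k⁻¹ with hu'
  have hu'U : u' ∈ UU chevG2 (ZMod 3) := conj_mem_UU _ hD (hH hkH) hu
  have hku : k * b' * (γ k)⁻¹ = u' := by
    rw [hug, hu']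
    have e : k * (u * g) * (γ k)⁻¹ = k * u * k⁻¹ * (k * g * (γ k)⁻¹) := by group
    rw [e, hkg, mul_one]
  have hu'γ : γ u' = u'⁻¹ := by
    apply eq_inv_of_mul_eq_one_right
    rw [← hku, map_mul, map_mul, map_inv, hγγ']
    have e : k * b' * (γ k)⁻¹ * (γ k * γ b' * k⁻¹) = k * (b' * γ b') * k⁻¹ := by group
    rw [e, hcoc]
    group
  obtain ⟨j, hj⟩ : ∃ j : ℕ, u' ^ (2 * j + 1) = 1 := by
    obtain ⟨S, hS⟩ := exists_sylow (F := ZMod 3) hD (p := 3)
    have hu'S : u' ∈ (S : Subgroup G3) := by rw [hS]; exact hu'U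
    obtain ⟨e, he⟩ := S.2 ⟨u', hu'S⟩
    have he' : u' ^ 3 ^ e = 1 := congrArg Subtype.val he
    obtain ⟨j, hj⟩ := (show Odd 3 by decide).pow (n := e)
    exact ⟨j, by rw [← hj]; exact he'⟩
  have hfin2 : (u' ^ j * k) * b' * (γ (u' ^ j * k))⁻¹ = 1 := by
    rw [map_mul, map_pow, hu'γ]
    have e : u' ^ j * k * b' * (u'⁻¹ ^ j * γ k)⁻¹ = u' ^ j * (k * b' * (γ k)⁻¹) * u' ^ j := by
      rw [inv_pow]; group
    rw [e, hku, ← pow_succ, ← pow_add, ← hj]
    congr 1
    omega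
  set K : G3 := u' ^ j * k with hK
  have hcx : cx x K⁻¹ = γ := by
    unfold cx
    rw [hxγ, map_inv, inv_inv]
    have e : MulAut.conj K * (MulAut.conj b' * γ) * (MulAut.conj K)⁻¹ =
        MulAut.conj K * MulAut.conj b' * (γ * MulAut.conj K⁻¹) := by
      rw [map_inv MulAut.conj K]
      group
    rw [e, hconjγ, map_inv γ K, ← mul_assoc, ← map_mul, ← map_mul, hfin2, map_one, one_mul]
  have hTγ : TT γ := by
    rw [← hcx]
    exact TT.cx hT _
  exact false_of_std hTγ (g7 1) (g5 1)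

end Three

/-- **`SwapRow` for `G₂(3^a)`** -/
theorem swap_chev [CharP F 3] : SwapRow 3 ↥(chevG2.group F) := by
  have hf3 : Fact (Nat.Prime 3) := ⟨by norm_num⟩
  obtain ⟨n, -, hn⟩ := FiniteField.card F 3
  have hfinG : Finite ↥(chevG2.group F) := finite_group chevG2 F
  have hfinG3 : Finite G3 := finite_group chevG2 (ZMod 3)
  by_cases h : 3 < Fintype.card F
  · exact swapRow_of_std inList_g2 (std_of_lt h)
  · have h1 : Fintype.card F = 3 := by
      have h2 : 3 ^ 1 ≤ 3 ^ (n : ℕ) := Nat.pow_le_pow_right (by norm_num) n.2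
      omega
    obtain ⟨f⟩ : Nonempty (ZMod 3 ≃+* F) := ⟨ZMod.ringEquivOfPrime F (by norm_num) h1⟩
    exact SwapRow.congr (Cfsg.Agent.ChevalleyStructure.FieldIso.groupEquiv chevG2 f).symm
      (swapRow_of_std inList_g2 std_three)

/-- **task 1537** -/
theorem swap_g2 {K : Type*} [Group K] [Finite K] [IsSimpleGroup K] {F : Type} [Field F] [Fintype F] [CharP F 3]
    (e : Nonempty (K ≃* ↥(Cfsg.Lie.chevG2.group F))) : Cfsg.Agent.H483.Rad23.SwapRow 3 K := by
  have hf3 : Fact (Nat.Prime 3) := ⟨by norm_num⟩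
  have hfinG : Finite ↥(chevG2.group F) := finite_group chevG2 F
  obtain ⟨e⟩ := e
  exact SwapRow.congr e swap_chev

end Cfsg.Agent.H958.Swap
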