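import Cfsg.Agent.H958.Swap.Base
import Cfsg.Agent.ChevalleyStructure.B2Sp4

/-!
# No automorphism of `G₂(q)` (`3 ∤ q`) and `PSp₄(q)` (`q` odd) exchanges the parabolics over a Borel subgroup (helper958)
-/

set_option autoImplicit false
set_option linter.unusedSectionVars false

namespace Cfsg.Agent.H958.Swap

open scoped Pointwise
open Subgroup Cfsg Cfsg.Lie Cfsg.Agent.ChevalleyStructure Cfsg.Agent.ChevalleyStructure.Elts
  Cfsg.Agent.H70.ChevFix Cfsg.Agent.H70.ChevField Cfsg.Agent.H70.OutCount Cfsg.Agent.Schreier.ChevLocal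
  Cfsg.Agent.H70.PermFix Cfsg.Agent.Schreier.ChevSch Cfsg.Agent.H70.AutFix Cfsg.Agent.ChevalleyStructure.BNChev
  Cfsg.Agent.S1042 Cfsg.Agent.ChevalleyStructure.NConj Cfsg.Agent.H70.ChevTab
open Cfsg.Agent.H331.BF.Chev Cfsg.Agent.H483.Rad23 Cfsg.Agent.H459.Rad Cfsg.Agent.H459.Iface Cfsg.Agent.H459.Gallery

universe u

variable {F : Type u} [Field F] [Finite F]

theorem perm_two' : ∀ π : Equiv.Perm (Fin 2), π ≠ 1 → π 0 = 1 ∧ π 1 = 0 := by decide

/-- rank two: an automorphism fixing `B` and moving an overgroup of `B` gives field automorphisms `σ₀`, `σ₁` with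
`σ₁(a ^ A₀₁) = σ₀(a) ^ A₁₀` -/
theorem rel_of_swap {D : ChevalleyDatum} (hD : InList D) (hr : D.rank = 2) {x : MulAut ↥(D.group F)}
    (hx : ∀ b ∈ BB D F, x b ∈ BB D F) {M : Subgroup ↥(D.group F)} (hM : BB D F ≤ M) (hm : ∃ m ∈ M, x m ∉ M) :
    ∃ σ₀ σ₁ : F ≃+* F, ∀ a : F, a ≠ 0 → σ₁ (a ^ D.cartan 0 (D.simple 1)) = (σ₀ a) ^ D.cartan 1 (D.simple 0) := by
  obtain ⟨m, hm, hxm⟩ := hm
  obtain ⟨b, hb, π, c, σ, hV, hU, hrel⟩ := exists_val hD hx
  have hπ : π ≠ 1 := by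
    rintro rfl
    exact hxm (mem_of_perm_one hD hb hV hx hM hm)
  have h2 : ∀ (n : ℕ) (hn : n = 2) (ρ : Equiv.Perm (Fin n)), ρ ≠ 1 →
      ρ ⟨0, by omega⟩ = ⟨1, by omega⟩ ∧ ρ ⟨1, by omega⟩ = ⟨0, by omega⟩ := by
    rintro n rfl ρ hρ
    exact perm_two' ρ hρ
  obtain ⟨h0, h1⟩ := h2 D.rank hr π hπ
  refine ⟨σ ⟨0, by omega⟩, σ ⟨1, by omega⟩, fun a ha => ?_⟩
  have h3 := hrel ⟨0, by omega⟩ ⟨1, by omega⟩ a ha
  rw [h0, h1] at h3
  exact h3

/-- `b ↦ b ^ k` is not a field automorphism -/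
theorem false_of_pow {k : ℕ} (σ₀ σ₁ : F ≃+* F) (h : ∀ a : F, a ≠ 0 → σ₁ (a ^ (-(k : ℤ))) = (σ₀ a) ^ (-1 : ℤ)) (hk : k ≠ 0)
    (b : F) : (1 + b) ^ k = 1 + b ^ k := by
  have h1 : ∀ a : F, σ₀ a = (σ₁ a) ^ k := by
    intro a
    rcases eq_or_ne a 0 with rfl | ha
    · rw [map_zero, map_zero, zero_pow hk]
    · have h2 := h a ha
      rw [map_zpow₀, zpow_neg, zpow_neg, inv_inj, zpow_one, zpow_natCast] at h2
      exact h2.symm
  have h3 : ∀ c : F, (1 + σ₁ c) ^ k = 1 + (σ₁ c) ^ k := by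
    intro c
    have h4 := h1 (1 + c)
    rw [map_add, map_add, map_one, map_one, h1 c] at h4
    exact h4.symm
  have h5 := h3 (σ₁.symm b)
  rwa [RingEquiv.apply_symm_apply] at h5

theorem std_g2 [Fintype F] {r : ℕ} [CharP F r] (hr : r ≠ 3) (h4 : 4 ≤ Fintype.card F) : StdRow chevG2 F := by
  classical
  intro x hx2 hR hP hT hxB M hM hm
  have hD : InList chevG2 := by simp [InList]
  obtain ⟨σ₀, σ₁, h⟩ := rel_of_swap hD (by decide) hxB hM hm
  have c1 : chevG2.cartan 0 (chevG2.simple 1) = -((3 : ℕ) : ℤ) ∧ chevG2.cartan 1 (chevG2.simple 0) = -1 := by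
    decide +kernel
  rw [c1.1, c1.2] at h
  have h1 := false_of_pow σ₀ σ₁ h (by norm_num)
  have h3 : (3 : F) ≠ 0 := by
    intro h3
    have h5 : r ∣ 3 := (CharP.cast_eq_zero_iff F r 3).1 (by exact_mod_cast h3)
    rcases (Nat.dvd_prime (by norm_num)).1 h5 with h6 | h6
    · subst h6
      exact CharP.ringChar_ne_one (R := F) ((CharP.eq F (ringChar.charP F) inferInstance : ringChar F = 1))
    · exact hr h6
  have h5 : ∀ b : F, b = 0 ∨ b = -1 := by
    intro b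
    have h6 : 3 * (b * (b + 1)) = 0 := by
      have h7 := h1 b
      linear_combination h7
    rcases mul_eq_zero.1 ((mul_eq_zero.1 h6).resolve_left h3) with h7 | h7
    · exact Or.inl h7
    · exact Or.inr (eq_neg_of_add_eq_zero_left h7)
  have h6 : (Finset.univ : Finset F) ⊆ {0, -1} := by
    intro b _
    rcases h5 b with h | h <;> simp [h]
  have h7 := Finset.card_le_card h6
  rw [Finset.card_univ] at h7
  have h8 := Finset.card_le_two (a := (0 : F)) (b := -1)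
  omega

theorem std_b2 {r : ℕ} [CharP F r] (hr : r ≠ 2) : StdRow chevB2 F := by
  intro x hx2 hR hP hT hxB M hM hm
  have hD : InList chevB2 := by simp [InList]
  obtain ⟨σ₀, σ₁, h⟩ := rel_of_swap hD (by decide) hxB hM hm
  have c1 : chevB2.cartan 0 (chevB2.simple 1) = -((2 : ℕ) : ℤ) ∧ chevB2.cartan 1 (chevB2.simple 0) = -1 := by
    decide +kernel
  rw [c1.1, c1.2] at h
  have h1 := false_of_pow σ₀ σ₁ h (by norm_num) 1
  have h2 : (2 : F) = 0 := by linear_combination h1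
  have h5 : r ∣ 2 := (CharP.cast_eq_zero_iff F r 2).1 (by exact_mod_cast h2)
  rcases (Nat.dvd_prime (by norm_num)).1 h5 with h6 | h6
  · subst h6
    exact CharP.ringChar_ne_one (R := F) ((CharP.eq F (ringChar.charP F) inferInstance : ringChar F = 1))
  · exact hr h6

theorem fact_prime (F : Type*) [Field F] [Finite F] (r : ℕ) [CharP F r] : Fact r.Prime :=
  ⟨(CharP.char_is_prime_or_zero F r).resolve_right (CharP.char_ne_zero_of_finite F r)⟩

/-- **`G₂(q)`, `3 ∤ q`** -/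
theorem noswap_g2 {K : Type*} [Group K] [Finite K] [IsSimpleGroup K] {F : Type} [Field F] [Fintype F] {r : ℕ}
    [CharP F r] (hr : r ≠ 3) (h4 : 4 ≤ Fintype.card F) (e : Nonempty (K ≃* ↥(Cfsg.Lie.chevG2.group F))) :
    Cfsg.Agent.H483.Rad23.SwapRow r K := by
  have hf := fact_prime F r
  have hfinG : Finite ↥(chevG2.group F) := finite_group chevG2 F
  obtain ⟨e⟩ := e
  exact SwapRow.congr e (swapRow_of_std (by simp [InList]) (std_g2 hr h4))

/-- **`PSp₄(q)`, `q` odd** -/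
theorem noswap_psp4' {K : Type*} [Group K] [Finite K] {F : Type*} [Field F] [Finite F] {r : ℕ}
    [CharP F r] (hr : r ≠ 2) (e : Nonempty (K ≃* Cfsg.PSp 2 F)) : Cfsg.Agent.H483.Rad23.SwapRow r K := by
  have hf := fact_prime F r
  have hfinG : Finite ↥(chevB2.group F) := finite_group chevB2 F
  obtain ⟨e⟩ := e
  obtain ⟨e'⟩ := Cfsg.Agent.ChevalleyStructure.B2Sp4.chevB2_equiv_PSp F
  exact SwapRow.congr (e.trans e'.symm) (swapRow_of_std (by simp [InList]) (std_b2 hr))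

theorem noswap_psp4 {K : Type*} [Group K] [Finite K] [IsSimpleGroup K] {F : Type} [Field F] [Fintype F] {r : ℕ}
    [CharP F r] (hr : r ≠ 2) (_h4 : 4 ≤ Fintype.card F) (e : Nonempty (K ≃* Cfsg.PSp 2 F)) :
    Cfsg.Agent.H483.Rad23.SwapRow r K := noswap_psp4' hr e

end Cfsg.Agent.H958.Swap
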